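import Cfsg.Agent.H700.PwB.Large
import Cfsg.Agent.H903.Ore.Baby

/-!
# The Baby Monster: products of two elements of order 23 in `C(z)`, `z` of class 2B (S2465, S2453; helper700)

`C(z) = 2^(1+22).Co₂`.  If every `l ≠ 1` in `Co₂` is a product of two elements of order 23 (`P2323`), then every element
of `B` commuting with a 2B involution is a product of two elements of order 23 (`cent_B`), in particular every
2-element (`two_B`).
-/

set_option autoImplicit false

namespace Cfsg.Agent.H700.PwB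

open Cfsg Cfsg.Agent.BabyM Cfsg.Agent.BabyM.Model Cfsg.Agent.BabyU.ClosModel Cfsg.Agent.BabyU.ClosLane
open Cfsg.Agent.H903.Ore.Large Cfsg.Agent.H903.Ore.Baby

universe u

/-- every nontrivial element of `Co₂` is a product of two elements of order 23 -/
def P2323 : Prop := ∀ l : Spor.Co2, l ≠ 1 → PP 23 l

/-- **The elements of `C(z)`**, for the model. -/
theorem cent_model (hO : P2323) (g : Inst.M.G) (hg : g * zz A = zz A * g) : PP 23 g := by
  have := A.finite_G
  obtain ⟨π, hs, hk⟩ := KFacts.Baby.Inst.quot A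
  obtain ⟨e⟩ := Cfsg.Agent.Schreier.CoTwoStab.exists_equiv _ GroupInst.dt_l₀
  obtain ⟨n₀, h1, h2, -⟩ := KFacts.Baby.Inst.gen A
  refine pp_cent (KFacts.Baby.Inst.large A) hs hk (r := 23) (n := 22) (by norm_num) (by decide) card_PP'
    ar_23_22 exists_y ⟨n₀, h1, h2⟩ ⟨g, Subgroup.mem_centralizer_singleton_iff.2 hg⟩ fun h1 => ?_
  have h2 := (hO (e (π ⟨g, Subgroup.mem_centralizer_singleton_iff.2 hg⟩)) fun h => h1 (e.injective (by
    rw [h, map_one]))).map e.symm
  rwa [e.symm_apply_apply] at h2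

/-- **The 2-elements**, for the model. -/
theorem two_model (hO : P2323) {g : Inst.M.G} (hg : ∃ k : ℕ, orderOf g = 2 ^ k) : PP 23 g := by
  have := A.finite_G
  obtain ⟨u, hu⟩ := H6.ORE.exists_conj_mem (KFacts.Baby.Inst.odd_index A) hg
  exact (cent_model hO _ (Subgroup.mem_centralizer_singleton_iff.1 hu)).of_conj

/-! ### The Baby Monster -/

section

variable {G : Type u} [Group G]

/-- **Every 2-element of the Baby Monster is a product of two elements of order 23.** -/
theorem two_B (h : Spor.IsoB G) (hO : P2323) {g : G} (hg : ∃ k : ℕ, orderOf g = 2 ^ k) : PP 23 g := by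
  obtain ⟨f⟩ := KFacts.Baby.RowB.exists_iso h
  have h1 : PP 23 (f.symm g) := two_model hO (by
    obtain ⟨k, hk⟩ := hg
    exact ⟨k, by rw [MulEquiv.orderOf_eq, hk]⟩)
  have h2 := h1.map f
  rwa [f.apply_symm_apply] at h2

/-- **Every element commuting with a 2B involution is a product of two elements of order 23.** -/
theorem cent_B (h : Spor.IsoB G) (hO : P2323) : ∃ z : G, orderOf z = 2 ∧
    Nat.card (Subgroup.centralizer ({z} : Set G)) = 2 ^ 23 * 42305421312000 ∧
    ∀ g x : G, g * (x * z * x⁻¹) = (x * z * x⁻¹) * g → PP 23 g := by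
  obtain ⟨f⟩ := KFacts.Baby.RowB.exists_iso h
  have := A.finite_G
  have hz : orderOf (zz A) = 2 := orderOf_eq_prime (by rw [pow_two]; exact z_sq A) (z_ne A)
  refine ⟨f (zz A), by rw [MulEquiv.orderOf_eq, hz], ?_, fun g x hg => ?_⟩
  · have h1 : (Subgroup.centralizer ({zz A} : Set Inst.M.G)).map f.toMonoidHom =
        Subgroup.centralizer ({f (zz A)} : Set G) := by
      ext y
      rw [Subgroup.mem_map, Subgroup.mem_centralizer_singleton_iff]
      constructor
      · rintro ⟨x, hx, rfl⟩
        rw [Subgroup.mem_centralizer_singleton_iff] at hx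
        show f x * f (zz A) = f (zz A) * f x
        rw [← map_mul, hx, map_mul]
      · intro hy
        refine ⟨f.symm y, Subgroup.mem_centralizer_singleton_iff.2 (f.injective ?_), f.apply_symm_apply y⟩
        rw [map_mul, map_mul, f.apply_symm_apply, hy]
    rw [← h1, ← Nat.card_congr ((Subgroup.centralizer ({zz A} : Set Inst.M.G)).equivMapOfInjective _ f.injective).toEquiv,
      Nat.card_congr (KFacts.Baby.Inst.eC A).toEquiv, A.grp.card_C]
  · refine PP.of_conj (x := x⁻¹) ?_
    have hg' : (x⁻¹ * g * x⁻¹⁻¹) * f (zz A) = f (zz A) * (x⁻¹ * g * x⁻¹⁻¹) := by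
      calc (x⁻¹ * g * x⁻¹⁻¹) * f (zz A) = x⁻¹ * (g * (x * f (zz A) * x⁻¹)) * x := by group
        _ = x⁻¹ * ((x * f (zz A) * x⁻¹) * g) * x := by rw [hg]
        _ = f (zz A) * (x⁻¹ * g * x⁻¹⁻¹) := by group
    obtain ⟨k, hk⟩ : ∃ k, k = x⁻¹ * g * x⁻¹⁻¹ := ⟨_, rfl⟩
    rw [← hk] at hg' ⊢
    have h1 : PP 23 (f.symm k) := cent_model hO _ (f.injective (by
      rw [map_mul, map_mul, f.apply_symm_apply, hg']))
    have h2 := h1.map f
    rwa [f.apply_symm_apply] at h2

end

end Cfsg.Agent.H700.PwB
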