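import Cfsg.Agent.H68.Ore.WordEq
import Cfsg.Agent.H68.Ore.Co2Words
import Cfsg.Agent.H700.PwB.Baby

/-!
# `Co₂` : every element `≠ 1` is a product of two elements of order `23` (S2465, helper700)

For every word `R ≠ 1` of the class list of helper68 a word `A = w A₀ w⁻¹` of order `23` such that `A⁻¹ R` has order `23`
(`tools/co2cover/words2323.txt`). `p2323`: with the cover theorem and the matrices of the three involutions.
-/

set_option autoImplicit false

namespace Cfsg.Agent.H700.PwB.CoTwo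

open Cfsg.Agent.H68.Ore Cfsg.Agent.H633.Ore Cfsg.Agent.H68.Ore.Words Cfsg.Agent.H68.Ore.WordEq Cfsg.Agent.H68.Ore.Inv

universe u

/-- the conjugators and the elements of order `23` -/
def W : List (List ℕ × List ℕ) := [
  ([0, 1, 0, 1], [0, 1, 2]),
  ([0, 1], [0, 1, 2]),
  ([2, 1, 0], [1, 0, 2]),
  ([], [2, 1, 0]),
  ([], [2, 1, 0]),
  ([], [1, 2, 0]),
  ([], [1, 2, 0]),
  ([2], [0, 2, 1]),
  ([0, 1, 2], [1, 2, 0]),
  ([], [2, 1, 0]),
  ([], [2, 1, 0]),
  ([], [0, 2, 1]),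
  ([2, 0], [1, 0, 2]),
  ([], [1, 2, 0]),
  ([], [1, 2, 0]),
  ([], [0, 1, 2]),
  ([], [0, 1, 2]),
  ([], [2, 1, 0]),
  ([2, 1, 0], [1, 0, 2]),
  ([], [0, 1, 2]),
  ([], [0, 1, 2]),
  ([2, 0], [2, 0, 1]),
  ([0, 1], [2, 1, 0]),
  ([0, 1, 0, 2], [1, 2, 0]),
  ([], [1, 2, 0]),
  ([2, 0, 2], [0, 2, 1]),
  ([0, 2], [0, 2, 1]),
  ([], [2, 0, 1]),
  ([0, 2, 1, 2], [0, 2, 1]),
  ([0], [2, 0, 1]),
  ([], [1, 2, 0]),
  ([2], [1, 2, 0]),
  ([0, 2, 1], [2, 1, 0]),
  ([2], [1, 2, 0]),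
  ([0, 1], [2, 1, 0]),
  ([0], [1, 0, 2]),
  ([0, 1, 0], [2, 0, 1]),
  ([0, 2], [1, 2, 0]),
  ([], [2, 0, 1]),
  ([], [2, 1, 0]),
  ([2, 1, 2, 0], [2, 0, 1]),
  ([], [0, 1, 2]),
  ([0], [2, 0, 1]),
  ([], [2, 1, 0]),
  ([], [1, 2, 0]),
  ([], [2, 0, 1]),
  ([2], [1, 2, 0]),
  ([0, 1, 0, 2], [1, 2, 0]),
  ([1], [2, 1, 0]),
  ([], [0, 2, 1]),
  ([1, 2], [0, 2, 1]),
  ([0], [2, 0, 1]),
  ([], [1, 2, 0]),
  ([0, 1], [2, 1, 0]),
  ([], [2, 1, 0])]

/-- the matrices of the three involutions on the codes (22 columns) -/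
def Gm : List (List ℕ) := [
  [1903316, 2, 3123864, 1786374, 3002798, 1110615, 3467474, 128, 741997, 162082, 1961409, 1112695, 4096, 591951, 16384, 195362, 2488817, 131072, 754560, 2631964, 2245469, 2863225],
  [3358281, 1951360, 2627824, 605129, 640729, 32, 1035754, 1808437, 2675355, 2961243, 1939987, 3814955, 2985623, 1318987, 3571848, 628278, 3885901, 4075224, 2546515, 1277485, 1758706, 1660339],
  [2698101, 203020, 3379360, 3425409, 3425433, 1313714, 2751783, 986240, 3639956, 2082993, 24602, 47625, 184662, 3216872, 3279100, 3265010, 2725686, 1811166, 949601, 3382938, 712650, 1109424]]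

/-- the word `A` -/
def wA (q : List ℕ × List ℕ) : List ℕ := q.1 ++ q.2 ++ q.1.reverse

/-- the word `B` -/
def wB (q : List ℕ × List ℕ) (p : List ℕ × List ℕ) : List ℕ := (wA q).reverse ++ cw p

/-- the matrix of the word has order `23` and moves the code `1` -/
noncomputable def chkO (Gs : List (List ℕ)) (w0 : ℕ) (u : List ℕ) : Bool :=
  allLt 3 u && (wm Gs w0 u fun L => pwF L 23 (idL w0) fun Ls => eqL (nthL Ls 23) (idL w0)) &&
    (wm Gs w0 u fun L => !Nat.beq (linL L 1) 1)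

/-- the check -/
noncomputable def chk2 (Gs : List (List ℕ)) (w0 : ℕ) (q p : List ℕ × List ℕ) : Bool :=
  chkO Gs w0 (wA q) && chkO Gs w0 (wB q p)

theorem chk_all : ((W.zip (Co2Words.L.drop 1)).all fun x => chk2 Gm 22 x.1 x.2) = true := by
  decide +kernel

theorem length_W : W.length = 55 := rfl

section

variable {G : Type u} [Group G] {Y : Type*} [MulAction G Y] (M : Mdl G Y)

theorem orderOf_chkO {tt : ℕ → G} {Gs : List (List ℕ)} (hG : ∀ c < 3, M.Rp (nthL Gs c) (tt c)) {u : List ℕ}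
    (h : chkO Gs M.w u = true) {y : Y} (hy : M.cd y = 1) : orderOf (wd tt u) = 23 := by
  rw [chkO, Bool.and_eq_true, Bool.and_eq_true] at h
  obtain ⟨⟨h1, h2⟩, h3⟩ := h
  refine orderOf_word M hG h1 (by norm_num) h2 y ?_
  rw [wm_eq] at h3 ⊢
  rw [hy]
  simpa using h3

/-- **products of two elements of order 23** from a cover -/
theorem pp_all {tt : ℕ → G} (ht : ∀ k, tt k * tt k = 1) (hw : M.w = 22)
    (hG : ∀ c < 3, M.Rp (nthL Gm c) (tt c)) {y : Y} (hy : M.cd y = 1)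
    (hc : ∀ g : G, ∃ w ∈ Co2Words.reps, IsConj (wd tt w) g ∨ IsConj (wd tt w)⁻¹ g) {l : G} (hl : l ≠ 1) :
    PP 23 l := by
  obtain ⟨w, hw1, hg⟩ := hc l
  obtain ⟨p, hp, rfl⟩ := List.mem_map.1 hw1
  have hne : wd tt (cw p) ≠ 1 := by
    intro h
    rw [h] at hg
    rcases hg with hg | hg
    · exact hl (isConj_one_right.1 hg)
    · rw [inv_one] at hg
      exact hl (isConj_one_right.1 hg)
  have hp' : p ∈ Co2Words.L.drop 1 := by
    have e : Co2Words.L = ([], []) :: Co2Words.L.drop 1 := rfl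
    rw [e, List.mem_cons] at hp
    rcases hp with rfl | hp
    · exact absurd rfl hne
    · exact hp
  have key : PP 23 (wd tt (cw p)) := by
    obtain ⟨i, hi, e⟩ := List.mem_iff_getElem.1 hp'
    have hlen : (Co2Words.L.drop 1).length = W.length := rfl
    have hz : (W[i]'(hlen ▸ hi), p) ∈ W.zip (Co2Words.L.drop 1) := by
      rw [List.mem_iff_getElem]
      refine ⟨i, ?_, ?_⟩
      · rw [List.length_zip]
        exact lt_min (hlen ▸ hi) hi
      · rw [List.getElem_zip, e]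
    have h1 := List.all_eq_true.1 chk_all _ hz
    rw [chk2, Bool.and_eq_true] at h1
    rw [← hw] at h1
    refine ⟨wd tt (wA (W[i]'(hlen ▸ hi))), wd tt (wB (W[i]'(hlen ▸ hi)) p), ?_, orderOf_chkO M hG h1.1 hy,
      orderOf_chkO M hG h1.2 hy⟩
    rw [wB, wd_append, wd_reverse ht, mul_inv_cancel_left]
  rcases hg with hg | hg
  · exact key.of_isConj hg
  · exact key.inv.of_isConj hg

end

end Cfsg.Agent.H700.PwB.CoTwo
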