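import Cfsg.Agent.H903.Ore.Large
import Cfsg.Agent.H323.Pw.Coset

/-!
# Products of two elements of order `r` in `C(z)`, `Q = O₂(C(z))` extraspecial (S2465, helper700)

* `PP r g` : `g = a * b`, `a` and `b` of order `r`;
* `pp_out` : `π g = a₀ b₀ ≠ 1` with `a₀`, `b₀` of order `r`, `r` prime with the arithmetic condition of helper903
  (no fixed points on `Q/⟨z⟩`): `g` is a product of two elements of order `r`;
* `pp_in` : the elements of `Q` different from `z`;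
* `pp_z` : `z`, if `z` has a conjugate in `Q` different from `z`;
* `pp_cent`, `pp_two`.
-/

set_option autoImplicit false

namespace Cfsg.Agent.H700.PwB

open Cfsg.Agent.Co2Type.Quad (Large)
open Cfsg.Agent.H6.ORE Cfsg.Agent.H903.Ore.Large Cfsg.Agent.H323.Pw Cfsg.Agent.H843.Ore
open Cfsg.Agent.H78.Pw (Pr All)

universe u v

/-- a product of two elements of order `r` -/
def PP {G : Type*} [Group G] (r : ℕ) (g : G) : Prop := ∃ a b : G, g = a * b ∧ orderOf a = r ∧ orderOf b = r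

section

variable {G : Type u} [Group G] {H : Type v} [Group H]

theorem PP.map {r : ℕ} {g : G} (h : PP r g) (f : G ≃* H) : PP r (f g) := by
  obtain ⟨a, b, e, ha, hb⟩ := h
  exact ⟨f a, f b, by rw [e, map_mul], by rw [MulEquiv.orderOf_eq, ha], by rw [MulEquiv.orderOf_eq, hb]⟩

theorem PP.conj {r : ℕ} {g : G} (h : PP r g) (x : G) : PP r (x * g * x⁻¹) := h.map (MulAut.conj x)

theorem PP.of_conj {r : ℕ} {g x : G} (h : PP r (x * g * x⁻¹)) : PP r g := by
  have h1 := h.conj x⁻¹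
  rwa [show x⁻¹ * (x * g * x⁻¹) * x⁻¹⁻¹ = g by group] at h1

theorem PP.of_isConj {r : ℕ} {g g' : G} (h : PP r g) (hc : IsConj g g') : PP r g' := by
  obtain ⟨x, hx⟩ := isConj_iff.1 hc
  rw [← hx]
  exact h.conj x

theorem PP.inv {r : ℕ} {g : G} (h : PP r g) : PP r g⁻¹ := by
  obtain ⟨a, b, e, ha, hb⟩ := h
  exact ⟨b⁻¹, a⁻¹, by rw [e, mul_inv_rev], by rwa [orderOf_inv], by rwa [orderOf_inv]⟩

/-- in a subgroup -/
theorem PP.of_sub {K : Subgroup G} {r : ℕ} {g : K} (h : PP r g) : PP r (g : G) := by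
  obtain ⟨a, b, e, ha, hb⟩ := h
  exact ⟨a, b, by rw [e]; rfl, by rw [Subgroup.orderOf_coe, ha], by rw [Subgroup.orderOf_coe, hb]⟩

theorem PP.pr {r n : ℕ} {g : G} (h : PP r g) (hr : r.Coprime n) : Pr n g := by
  obtain ⟨a, b, e, ha, hb⟩ := h
  exact ⟨a, b, e, by rwa [ha], by rwa [hb]⟩

end

variable {K : Type u} [Group K] {Q : Subgroup K} {z : K} {L : Type v} [Group L] {π : CZ z →* L}

/-- a lift of order `r` -/
theorem lift_order [Finite Q] (h : Large Q z) (hs : Function.Surjective π) (hk : ∀ c, π c = 1 ↔ (c : K) ∈ Q)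
    {r : ℕ} (hr : r.Prime) (hodd : Odd r) {a₀ : L} (ha : orderOf a₀ = r) : ∃ a : CZ z, π a = a₀ ∧ orderOf a = r := by
  obtain ⟨a, rfl⟩ := hs a₀
  have hker : π.ker = Q.subgroupOf (CZ z) := by
    ext c
    rw [MonoidHom.mem_ker, hk]
    rfl
  have hE := es_of_large h
  obtain ⟨y, hy, hay⟩ := exists_lift π (n := 2) hker (fun x hx => ⟨2, ES.pow_four hE hx⟩)
    (by rw [ha]; exact (Nat.coprime_two_left.2 hodd).symm)
  have hπy : π y = 1 := by
    rw [hk]
    exact hy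
  have hπ : π (a * y) = π a := by rw [map_mul, hπy, mul_one]
  refine ⟨a * y, hπ, ?_⟩
  apply Nat.dvd_antisymm
  · have h1 : (a * y) ^ r ∈ Q.subgroupOf (CZ z) := by
      rw [← hker, MonoidHom.mem_ker, map_pow, hπ, ← ha, pow_orderOf_eq_one]
    have h2 : (a * y) ^ (r * 4) = 1 := by rw [pow_mul]; exact ES.pow_four hE h1
    have h3 := orderOf_dvd_of_pow_eq_one h2
    exact (Nat.Coprime.dvd_of_dvd_mul_right (by
      rw [show (4 : ℕ) = 2 ^ 2 by norm_num]
      exact hay.pow_right 2) h3)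
  · rw [← ha, ← hπ]
    exact orderOf_map_dvd π _

/-- an element of order `r` modulo `Q` has no fixed points on `Q/⟨z⟩` -/
theorem nofix [Finite Q] (h : Large Q z) (hk : ∀ c, π c = 1 ↔ (c : K) ∈ Q)
    {r n : ℕ} (hr : r.Prime) (hodd : Odd r) (hcard : Nat.card Q = 2 ^ (n + 1)) (har : Ar r n) {a : CZ z}
    (ha : orderOf (π a) = r) : ∀ x ∈ Q.subgroupOf (CZ z), (a * x * a⁻¹ = x ∨ a * x * a⁻¹ = x * zC z) →
      x = 1 ∨ x = zC z := by
  intro x hx hxa
  have hd1 : ((a ^ r : CZ z) : K) ∈ Q := by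
    rw [← hk, map_pow, ← ha, pow_orderOf_eq_one]
  have hd2 : (a : K) ∉ Q := by
    intro hdQ
    rw [← hk] at hdQ
    rw [hdQ, orderOf_one] at ha
    exact hr.one_lt.ne ha
  have hxQ : (x : K) ∈ Q := hx
  have h3 := fpf h hr hodd hcard har hd1 hd2
    (act_fix h a (x := ⟨x, hxQ⟩) (hxa.imp (congrArg Subtype.val) (congrArg Subtype.val)))
  exact (h.pr_eq_zero.1 h3).imp (fun e => Subtype.ext e) (fun e => Subtype.ext e)

/-- **Elements outside `Q`.** -/
theorem pp_out [Finite Q] (h : Large Q z) (hs : Function.Surjective π) (hk : ∀ c, π c = 1 ↔ (c : K) ∈ Q)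
    {r n : ℕ} (hr : r.Prime) (hodd : Odd r) (hcard : Nat.card Q = 2 ^ (n + 1)) (har : Ar r n) {g : CZ z}
    (hg : π g ≠ 1) (hp : PP r (π g)) : PP r g := by
  obtain ⟨a₀, b₀, e, ha, hb⟩ := hp
  have hE := es_of_large h
  have hfin : Finite (Q.subgroupOf (CZ z)) := finQ
  obtain ⟨a, rfl, hoa⟩ := lift_order h hs hk hr hodd ha
  obtain ⟨b, rfl, hob⟩ := lift_order h hs hk hr hodd hb
  have hx : (a * b)⁻¹ * g ∈ Q.subgroupOf (CZ z) := by
    show (((a * b)⁻¹ * g : CZ z) : K) ∈ Q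
    rw [← hk, map_mul, map_inv, map_mul, e, inv_mul_cancel]
  obtain ⟨u, -, w, -, e'⟩ := ES.prod_step_fpf hE (nofix h hk hr hodd hcard har ha) (nofix h hk hr hodd hcard har hb) (by
    by_contra hno
    push Not at hno
    apply hg
    rw [e, ← map_mul, hk]
    apply Cfsg.Agent.KFacts.LargeO2.mem_of_triv h (Subgroup.mem_centralizer_singleton_iff.1 (a * b).2)
    intro y hy
    have hyC : y ∈ CZ z := Subgroup.mem_centralizer_singleton_iff.2 (h.comm_z y hy)
    exact (hno ⟨y, hyC⟩ hy).imp (congrArg Subtype.val) (congrArg Subtype.val)) hx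
  rw [mul_inv_cancel_left] at e'
  refine ⟨u * a * u⁻¹, w * b * w⁻¹, e'.symm, ?_, ?_⟩
  · rw [show u * a * u⁻¹ = MulAut.conj u a from rfl, MulEquiv.orderOf_eq]; exact hoa
  · rw [show w * b * w⁻¹ = MulAut.conj w b from rfl, MulEquiv.orderOf_eq]; exact hob

/-- the noncentral elements of an extraspecial group, and 1 -/
theorem ES.pp_mem {H : Type*} [Group H] {Q : Subgroup H} {z : H} (h : ES Q z) [Finite Q] {r : ℕ} {a : H}
    (hord : orderOf a = r)
    (hfix : ∀ x ∈ Q, (a * x * a⁻¹ = x ∨ a * x * a⁻¹ = x * z) → x = 1 ∨ x = z)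
    {q : H} (hq : q ∈ Q) (hne : q ≠ z) : PP r q := by
  by_cases hq1 : q = 1
  · rw [hq1]; exact ⟨a, a⁻¹, by rw [mul_inv_cancel], hord, by rw [orderOf_inv, hord]⟩
  have hn := h.normal
  have hzn := h.normal_zpowers
  obtain ⟨u, hu, w, hw, e⟩ := step (a := a) (b := a⁻¹) (fpz_cov h (FPz.of_left h a⁻¹ hfix)) hq
  have key : PP r (u * a * u⁻¹ * (w * a⁻¹ * w⁻¹)) := by
    refine ⟨_, _, rfl, ?_, ?_⟩
    · rw [show u * a * u⁻¹ = MulAut.conj u a from rfl, MulEquiv.orderOf_eq]; exact hord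
    · rw [show w * a⁻¹ * w⁻¹ = MulAut.conj w a⁻¹ from rfl, MulEquiv.orderOf_eq, orderOf_inv]; exact hord
  rw [mul_inv_cancel, one_mul, h.mem_zpowers] at e
  rcases e with e | e
  · rwa [inv_mul_eq_one.1 e] at key
  · have e0 : q = u * a * u⁻¹ * (w * a⁻¹ * w⁻¹) * z := by rw [← e]; group
    have : ∃ y ∈ Q, ¬ (q * y = y * q) := by
      by_contra hno
      push Not at hno
      rcases h.nd q hq hno with h1 | h1
      · exact hq1 h1
      · exact hne h1
    obtain ⟨y, hy, hyq⟩ := this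
    have e2 : q * y = y * q * z := (h.comm q hq y hy).resolve_left hyq
    refine PP.of_conj (x := y) ?_
    have e3 : y * q * y⁻¹ = q * z := by
      have e4 : y * q = q * y * z := by rw [e2, mul_assoc (y * q), h.sq, mul_one]
      rw [e4, mul_assoc q, h.central, mul_assoc, mul_assoc, mul_inv_cancel, mul_one]
    rw [e3, e0, mul_assoc, h.sq, mul_one]
    exact key

/-- **Elements of `Q`.** -/
theorem pp_in [Finite Q] (h : Large Q z) (hs : Function.Surjective π) (hk : ∀ c, π c = 1 ↔ (c : K) ∈ Q)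
    {r n : ℕ} (hr : r.Prime) (hodd : Odd r) (hcard : Nat.card Q = 2 ^ (n + 1)) (har : Ar r n)
    {y : L} (hyr : orderOf y = r) {q : K} (hq : q ∈ Q) (hqz : q ≠ z) : PP r q := by
  have hE := es_of_large h
  have hfin : Finite (Q.subgroupOf (CZ z)) := finQ
  obtain ⟨a, rfl, hoa⟩ := lift_order h hs hk hr hodd hyr
  have hqC : q ∈ CZ z := Subgroup.mem_centralizer_singleton_iff.2 (h.comm_z q hq)
  exact (ES.pp_mem hE hoa (nofix h hk hr hodd hcard har hyr) (q := ⟨q, hqC⟩) hq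
    (fun e => hqz (congrArg Subtype.val e))).of_sub

/-- **All elements of `C(z)`.** -/
theorem pp_cent [Finite Q] (h : Large Q z) (hs : Function.Surjective π) (hk : ∀ c, π c = 1 ↔ (c : K) ∈ Q)
    {r n : ℕ} (hr : r.Prime) (hodd : Odd r) (hcard : Nat.card Q = 2 ^ (n + 1)) (har : Ar r n)
    (hy : ∃ y : L, orderOf y = r) (hz : ∃ x : K, x * z * x⁻¹ ∈ Q ∧ x * z * x⁻¹ ≠ z) (g : CZ z)
    (hO : π g ≠ 1 → PP r (π g)) : PP r (g : K) := by
  by_cases h1 : π g = 1
  · obtain ⟨y, hy⟩ := hy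
    by_cases hgz : (g : K) = z
    · obtain ⟨x, hx, hxz⟩ := hz
      rw [hgz]
      exact (pp_in h hs hk hr hodd hcard har hy hx hxz).of_conj
    · exact pp_in h hs hk hr hodd hcard har hy ((hk g).1 h1) hgz
  · exact (pp_out h hs hk hr hodd hcard har h1 (hO h1)).of_sub

/-- **The 2-elements.** -/
theorem pp_two [Finite K] (h : Large Q z) (hs : Function.Surjective π) (hk : ∀ c, π c = 1 ↔ (c : K) ∈ Q)
    {r n : ℕ} (hr : r.Prime) (hodd : Odd r) (hcard : Nat.card Q = 2 ^ (n + 1)) (har : Ar r n)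
    (hy : ∃ y : L, orderOf y = r) (hz : ∃ x : K, x * z * x⁻¹ ∈ Q ∧ x * z * x⁻¹ ≠ z) (hi : Odd (CZ z).index)
    (hO : ∀ l : L, l ≠ 1 → (∃ k : ℕ, orderOf l = 2 ^ k) → PP r l) {g : K} (hg : ∃ k : ℕ, orderOf g = 2 ^ k) :
    PP r g := by
  obtain ⟨u, hu⟩ := exists_conj_mem hi hg
  refine PP.of_conj (x := u) ?_
  refine pp_cent h hs hk hr hodd hcard har hy hz ⟨u * g * u⁻¹, hu⟩ fun h1 => hO _ h1 ?_
  obtain ⟨k, hk'⟩ := hg
  have ho : orderOf (⟨u * g * u⁻¹, hu⟩ : CZ z) = 2 ^ k := by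
    rw [← Subgroup.orderOf_coe, ← hk']
    show orderOf (u * g * u⁻¹) = orderOf g
    rw [show u * g * u⁻¹ = MulAut.conj u g from rfl, MulEquiv.orderOf_eq]
  have h2 : orderOf (π ⟨u * g * u⁻¹, hu⟩) ∣ 2 ^ k := by rw [← ho]; exact orderOf_map_dvd π _
  obtain ⟨j, -, hj⟩ := (Nat.dvd_prime_pow Nat.prime_two).1 h2
  exact ⟨j, hj⟩

end Cfsg.Agent.H700.PwB
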